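import Groth.Agent.FinCodimLib.Basic

/-!
# Finitely many points with Noetherian local rings of dimension at most one lie in an affine open

The ambient scheme is only assumed quasi-compact with finitely many irreducible components.
-/

set_option autoImplicit false
universe u

open CategoryTheory AlgebraicGeometry TopologicalSpace Opposite
open FinPicLib (IsGen)
open CurveAmpLib (stalkSub stalkEquiv exists_section_of_mem isFractionRing_stalkSub)
open FinCodimLib (sup_eq_top)

noncomputable section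

namespace FinCodimGenLib

variable {X : Scheme.{u}}

/-- A point in the closure of a closed set cut by a basic open has a generalization in it. -/
theorem exists_generalization_of_mem_closure {C : Set X} (hC : IsClosed C) {W : X.Opens} (σ : Γ(X, W))
    {t : X} (htW : t ∈ W) (ht : t ∈ closure (C ∩ (X.basicOpen σ : Set X))) :
    ∃ w ∈ C ∩ (X.basicOpen σ : Set X), w ⤳ t := by
  obtain ⟨A, hA, htA, hAW⟩ := exists_isAffineOpen_mem_and_subset (X := X) (x := t) (U := W) htW
  obtain ⟨P, rfl⟩ : t ∈ Set.range hA.fromSpec := by rw [hA.range_fromSpec]; exact htA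
  let f : Γ(X, A) := X.presheaf.map (homOfLE hAW).op σ
  obtain ⟨I, hI⟩ : ∃ I : Ideal Γ(X, A), PrimeSpectrum.zeroLocus (I : Set Γ(X, A)) = hA.fromSpec ⁻¹' C :=
    ⟨PrimeSpectrum.vanishingIdeal (hA.fromSpec ⁻¹' C), by
      rw [PrimeSpectrum.zeroLocus_vanishingIdeal_eq_closure]
      exact (hC.preimage hA.fromSpec.continuous).closure_eq⟩
  have hD : ∀ Q, hA.fromSpec Q ∈ X.basicOpen σ ↔ f ∉ Q.asIdeal := by
    intro Q
    have h1 : hA.fromSpec Q ∈ X.basicOpen f ↔ f ∉ Q.asIdeal := by
      change Q ∈ hA.fromSpec ⁻¹ᵁ X.basicOpen f ↔ _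
      rw [hA.fromSpec_preimage_basicOpen f]
      exact Iff.rfl
    rw [← h1, Scheme.basicOpen_res]
    have hQA : hA.fromSpec Q ∈ A := hA.range_fromSpec.le ⟨Q, rfl⟩
    exact ⟨fun h => ⟨hQA, h⟩, fun h => h.2⟩
  have hP : @Membership.mem (PrimeSpectrum Γ(X, A)) (Set (PrimeSpectrum Γ(X, A))) _ (closure (PrimeSpectrum.zeroLocus (I : Set Γ(X, A)) ∩ PrimeSpectrum.basicOpen f)) P := by
    have : hA.fromSpec ⁻¹' (C ∩ (X.basicOpen σ : Set X)) =
        PrimeSpectrum.zeroLocus (I : Set Γ(X, A)) ∩ PrimeSpectrum.basicOpen f := by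
      rw [Set.preimage_inter, hI]
      congr 1
      ext Q
      exact (hD Q).trans Iff.rfl
    rw [← this]
    exact (hA.fromSpec.isOpenEmbedding.isOpenMap.preimage_closure_eq_closure_preimage
      hA.fromSpec.continuous (C ∩ (X.basicOpen σ : Set X))).subset ht
  have hdis : Disjoint (I : Set Γ(X, A)) ((Submonoid.powers f ⊔ P.asIdeal.primeCompl : Submonoid _) : Set Γ(X, A)) := by
    rw [Set.disjoint_left]
    intro a haI ha
    obtain ⟨_, ⟨n, rfl⟩, g, hg, rfl⟩ := Submonoid.mem_sup.mp ha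
    rw [mem_closure_iff] at hP
    obtain ⟨Q, hQg, hQI, hQf⟩ := hP _ (PrimeSpectrum.isOpen_basicOpen (a := g)) hg
    rcases Q.isPrime.mem_or_mem (hQI haI) with h | h
    · exact hQf (Q.isPrime.mem_of_pow_mem n h)
    · exact hQg h
  obtain ⟨Q, hQ, hIQ, hQd⟩ := Ideal.exists_le_prime_disjoint I _ hdis
  refine ⟨hA.fromSpec ⟨Q, hQ⟩, ⟨?_, ?_⟩, ?_⟩
  · show (⟨Q, hQ⟩ : PrimeSpectrum Γ(X, A)) ∈ hA.fromSpec ⁻¹' C
    rw [← hI]
    exact hIQ
  · exact (hD ⟨Q, hQ⟩).mpr fun h => Set.disjoint_left.mp hQd h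
      (Submonoid.mem_sup_left (Submonoid.mem_powers f))
  · refine Specializes.map ?_ hA.fromSpec.continuous
    refine (PrimeSpectrum.le_iff_specializes (⟨Q, hQ⟩ : PrimeSpectrum Γ(X, A)) P).mp fun a ha => ?_
    by_contra hna
    exact Set.disjoint_left.mp hQd ha (Submonoid.mem_sup_right hna)

section Integral

variable [IsIntegral X]

theorem eq_of_specializes {w t : X} (hd : ringKrullDim (X.presheaf.stalk t) ≤ 1)
    (h : w ⤳ t) : IsGen w ∨ w = t := by
  haveI : Ring.KrullDimLE 1 (X.presheaf.stalk t) := Ring.krullDimLE_iff.mpr hd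
  obtain ⟨p, hp⟩ : w ∈ Set.range (X.fromSpecStalk t) := by rw [X.range_fromSpecStalk]; exact h
  by_cases hbot : p.asIdeal = ⊥
  · refine Or.inl fun z hz => ?_
    obtain ⟨q, hq⟩ : z ∈ Set.range (X.fromSpecStalk t) := by rw [X.range_fromSpecStalk]; exact hz.trans h
    have hpq : p ⤳ q := (PrimeSpectrum.le_iff_specializes _ _).mp
      (show p.asIdeal ≤ q.asIdeal from hbot ▸ bot_le)
    have h1 : w ⤳ z := hp ▸ hq ▸ hpq.map (X.fromSpecStalk t).continuous
    exact (hz.antisymm h1).eq
  · refine Or.inr ?_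
    have : p = IsLocalRing.closedPoint (X.presheaf.stalk t) :=
      PrimeSpectrum.ext (IsLocalRing.eq_maximalIdeal (p.2.isMaximal_of_ne_bot hbot))
    rw [← hp, this, X.fromSpecStalk_closedPoint]

theorem good_stalkSub {x : X} [IsNoetherianRing (X.presheaf.stalk x)] (hd : ringKrullDim (X.presheaf.stalk x) ≤ 1) (hx : ¬ IsGen x) :
    SemiGlue.Good (stalkSub x) := by
  haveI : Ring.KrullDimLE 1 (X.presheaf.stalk x) := Ring.krullDimLE_iff.mpr hd
  have hd1 : ringKrullDim (X.presheaf.stalk x) = 1 := by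
    refine le_antisymm (Ring.krullDimLE_iff.mp inferInstance) ?_
    by_contra hlt
    haveI : Ring.KrullDimLE 0 (X.presheaf.stalk x) := Ring.krullDimLE_iff.mpr (Order.le_of_lt_succ (not_le.mp hlt))
    refine hx fun z hz => ?_
    obtain ⟨p, hp⟩ : z ∈ Set.range (X.fromSpecStalk x) := by rw [X.range_fromSpecStalk]; exact hz
    have : p = IsLocalRing.closedPoint (X.presheaf.stalk x) :=
      PrimeSpectrum.ext (IsLocalRing.eq_maximalIdeal (Ideal.isMaximal_of_isPrime p.asIdeal))
    rw [← hp, this, X.fromSpecStalk_closedPoint]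
  haveI : IsLocalRing (stalkSub x) := RingEquiv.isLocalRing (stalkEquiv x)
  exact ⟨isFractionRing_stalkSub x, isNoetherianRing_of_ringEquiv _ (stalkEquiv x),
    (ringKrullDim_eq_of_ringEquiv (stalkEquiv x)).symm.trans hd1, inferInstance⟩

/-- Finitely many closed points lie in an affine open. -/
theorem exists_affine_of_closed [X.IsSeparated] (T : Set X)
    (hT : T.Finite) (hN : ∀ t ∈ T, IsNoetherianRing (X.presheaf.stalk t))
    (hd : ∀ t ∈ T, ringKrullDim (X.presheaf.stalk t) ≤ 1) (hG : ∀ t ∈ T, ¬ IsGen t) : ∃ U : X.Opens, IsAffineOpen U ∧ T ⊆ U := by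
  classical
  induction T, hT using Set.Finite.induction_on with
  | empty => exact ⟨⊥, isAffineOpen_bot X, Set.empty_subset _⟩
  | @insert t₀ s hts hs ih =>
    obtain ⟨U, hU, hsU⟩ := ih (fun t ht => hN t (Set.mem_insert_of_mem _ ht)) (fun t ht => hd t (Set.mem_insert_of_mem _ ht)) fun t ht => hG t (Set.mem_insert_of_mem _ ht)
    obtain ⟨V, hV, ht₀V, -⟩ := exists_isAffineOpen_mem_and_subset (X := X) (x := t₀) (U := ⊤) trivial
    have hfin : (insert t₀ s).Finite := hs.insert t₀
    let ι := {t // t ∈ insert t₀ s}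
    haveI : Finite ι := hfin.to_subtype
    haveI := Fintype.ofFinite ι
    have hA : ∀ i : ι, SemiGlue.Good (stalkSub i.1) := fun i => haveI := hN i.1 i.2; good_stalkSub (hd i.1 i.2) (hG i.1 i.2)
    obtain ⟨S⟩ := SemiGlue.exists_sep (A := fun i : ι => stalkSub i.1) (R := ⨅ i : ι, stalkSub i.1) hA
      (fun i j h => sup_eq_top (hd i.1 i.2) (hd j.1 j.2) fun e => h (Subtype.ext e)) (fun z => Subring.mem_iInf)
    -- a function separating the points outside `U` from those outside `V`
    let i₀ : ι := ⟨t₀, Set.mem_insert _ _⟩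
    haveI : Nonempty ι := ⟨i₀⟩
    let R : Subring X.functionField := ⨅ i : ι, stalkSub i.1
    let m : ι → Ideal R := fun i =>
      (IsLocalRing.maximalIdeal (X.presheaf.stalk i.1)).comap ((stalkEquiv i.1).symm.toRingHom.comp (Subring.inclusion (S.le i)))
    have hmem : ∀ i (a : R), a ∈ m i ↔ (⟨a.1, S.le i a.2⟩ : stalkSub i.1) ∉ {b : stalkSub i.1 | IsUnit b} := by
      intro i a
      show (stalkEquiv i.1).symm (Subring.inclusion (S.le i) a) ∈ IsLocalRing.maximalIdeal _ ↔ _
      rw [IsLocalRing.mem_maximalIdeal, mem_nonunits_iff]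
      exact not_congr (isUnit_map_iff (stalkEquiv i.1).symm _)
    have hne : ∀ i j, i ≠ j → S.elt i ∈ m j ∧ S.elt i ∉ m i := fun i j h => by
      refine ⟨?_, fun hh => (hmem i _).mp hh (S.isUnit_elt i)⟩
      rw [hmem]
      intro hu
      obtain ⟨M, hM⟩ := Ideal.exists_maximal (stalkSub j.1)
      exact hM.ne_top (Ideal.eq_top_of_isUnit_mem M (S.rad i j (Ne.symm h) _ M hM) hu)
    haveI hmp : ∀ i, (m i).IsPrime := fun i => Ideal.IsPrime.comap _
    have hmax : ∀ i, (m i).IsMaximal := fun i => by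
      refine S.isMaximal_of_ne_bot _ (hmp i) fun hb => (hA i).not_isField ?_
      rw [Ring.isField_iff_isSimpleOrder_ideal]
      refine isSimpleOrder_iff_isCoatom_bot.mpr ?_
      obtain ⟨M, hM⟩ := Ideal.exists_maximal (stalkSub i.1)
      have hM0 : M = ⊥ := by
        rw [eq_bot_iff]
        intro a ha
        obtain ⟨n, hn⟩ := S.exists_pow_mem i a.2
        have h1 : (⟨(a : X.functionField) * S.a i ^ n, hn⟩ : R) ∈ m i := by
          rw [hmem]
          intro hu
          refine hM.ne_top (Ideal.eq_top_of_isUnit_mem M ?_ hu)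
          show a * (Subring.inclusion (S.le i) (S.elt i)) ^ n ∈ M
          exact M.mul_mem_right _ ha
        rw [hb, Ideal.mem_bot] at h1
        have h2 : (a : X.functionField) * S.a i ^ n = 0 := congrArg Subtype.val h1
        exact Ideal.mem_bot.mpr (Subtype.ext ((mul_eq_zero.mp h2).resolve_right (pow_ne_zero n (S.ne_zero i))))
      exact (hM0 ▸ hM).out
    have hcop : Pairwise fun i j => IsCoprime (m i) (m j) := fun i j h => by
      refine Ideal.isCoprime_iff_sup_eq.mpr ?_
      exact (hmax i).coprime_of_ne (hmax j) fun e => (hne i j h).2 (e ▸ (hne i j h).1)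
    obtain ⟨g, hg⟩ := Ideal.pi_quotient_surjective hcop fun i => if i = i₀ then 0 else 1
    have hg0 : g ∈ m i₀ := Ideal.Quotient.eq_zero_iff_mem.mp ((hg i₀).trans (if_pos rfl))
    have hg1 : ∀ i, i ≠ i₀ → 1 - g ∈ m i := fun i hi => by
      rw [← Ideal.Quotient.eq_zero_iff_mem, map_sub, map_one, hg i, if_neg hi, sub_self]
    obtain ⟨W, σ, hTW, hσ⟩ := exists_section_of_mem hfin g.1 fun t ht => S.le ⟨t, ht⟩ g.2
    have hval : ∀ (i : ι) (τ : Γ(X, W)) (r : R),
        algebraMap (X.presheaf.stalk i.1) X.functionField (X.presheaf.germ W i.1 (hTW i.2) τ) = r.1 →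
        r ∈ m i → i.1 ∉ X.basicOpen τ := by
      intro i τ r e hr hτ
      refine (hmem i r).mp hr ?_
      have : stalkEquiv i.1 (X.presheaf.germ W i.1 (hTW i.2) τ) = (⟨r.1, S.le i r.2⟩ : stalkSub i.1) := Subtype.ext e
      show IsUnit _
      rw [← this]
      exact ((X.mem_basicOpen τ i.1 (hTW i.2)).mp hτ).map _
    rcases s.eq_empty_or_nonempty with hs0 | ⟨t₁, ht₁⟩
    · exact ⟨V, hV, fun t ht => by
        rcases Set.mem_insert_iff.mp ht with rfl | ht
        · exact ht₀V
        · exact absurd ht (hs0 ▸ id)⟩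
    have hnotgen : ∀ (O : X.Opens), (∃ w, w ∈ O) → ∀ z ∈ (O : Set X)ᶜ, ¬ IsGen z := fun O ⟨w, hw⟩ z hz hg =>
      hz ((hg _ ((genericPoint_spec X).specializes trivial)) ▸
        ((genericPoint_spec X).mem_open_set_iff O.2).mpr ⟨w, trivial, hw⟩)
    let B : Set X := closure ((U : Set X)ᶜ ∩ (X.basicOpen σ : Set X)) ∪ closure ((V : Set X)ᶜ ∩ (X.basicOpen (1 - σ) : Set X))
    have hBT : ∀ t ∈ insert t₀ s, t ∉ B := by
      intro t ht hB
      rcases hB with hB | hB
      · obtain ⟨w, ⟨hwU, hwσ⟩, hwt⟩ := exists_generalization_of_mem_closure U.2.isClosed_compl σ (hTW ht) hB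
        rcases eq_of_specializes (hd t ht) hwt with hg | rfl
        · exact hnotgen U ⟨t₁, hsU ht₁⟩ w hwU hg
        · rcases Set.mem_insert_iff.mp ht with rfl | h
          · exact hval i₀ σ g (hσ _ ht (hTW ht)) hg0 hwσ
          · exact hwU (hsU h)
      · obtain ⟨w, ⟨hwV, hwσ⟩, hwt⟩ :=
          exists_generalization_of_mem_closure V.2.isClosed_compl (1 - σ) (hTW ht) hB
        rcases eq_of_specializes (hd t ht) hwt with hg | rfl
        · exact hnotgen V ⟨t₀, ht₀V⟩ w hwV hg
        · refine hval ⟨w, ht⟩ (1 - σ) (1 - g) ?_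
            (hg1 _ fun e => hwV (show w ∈ V from (show w = t₀ from congrArg Subtype.val e).symm ▸ ht₀V)) hwσ
          rw [map_sub, map_sub, map_one, map_one, hσ w ht (hTW ht)]
          rfl
    let W' : X.Opens := W ⊓ ⟨Bᶜ, (isClosed_closure.union isClosed_closure).isOpen_compl⟩
    have hWW : W' ≤ W := inf_le_left
    refine AffContLib.exists_affine_of_separating hU hV (R := W') (X.presheaf.map (homOfLE hWW).op σ) ?_ ?_ _ hfin
      (fun t ht => ⟨hTW ht, hBT t ht⟩)
    · intro z hz
      rw [Scheme.basicOpen_res] at hz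
      by_contra hzU
      exact hz.1.2 (Or.inl (subset_closure ⟨hzU, hz.2⟩))
    · intro z hz
      rw [← map_one (X.presheaf.map (homOfLE hWW).op).hom, ← map_sub, Scheme.basicOpen_res] at hz
      by_contra hzV
      exact hz.1.2 (Or.inr (subset_closure ⟨hzV, hz.2⟩))

end Integral

theorem exists_affine_of_finite_integral [IsIntegral X] [X.IsSeparated]
    (T : Set X) (hT : T.Finite) (hN : ∀ t ∈ T, IsNoetherianRing (X.presheaf.stalk t)) (hd : ∀ t ∈ T, ringKrullDim (X.presheaf.stalk t) ≤ 1) :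
    ∃ U : X.Opens, IsAffineOpen U ∧ T ⊆ U := by
  obtain ⟨U, hU, hTU⟩ := exists_affine_of_closed (T \ {t | IsGen t}) (hT.subset Set.diff_subset)
    (fun t ht => hN t ht.1) (fun t ht => hd t ht.1) fun t ht => ht.2
  rcases (T \ {t | IsGen t}).eq_empty_or_nonempty with he | ⟨t₁, ht₁⟩
  · obtain ⟨W, hW, hηW, -⟩ := exists_isAffineOpen_mem_and_subset (x := genericPoint X) (U := ⊤) trivial
    refine ⟨W, hW, fun t ht => ?_⟩
    have : IsGen t := by_contra fun h => Set.eq_empty_iff_forall_notMem.mp he t ⟨ht, h⟩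
    exact (this _ ((genericPoint_spec X).specializes trivial)) ▸ hηW
  · refine ⟨U, hU, fun t ht => ?_⟩
    by_cases hg : IsGen t
    · exact (hg _ ((genericPoint_spec X).specializes trivial)) ▸
        ((genericPoint_spec X).mem_open_set_iff U.2).mpr ⟨t₁, trivial, hTU ht₁⟩
    · exact hTU ⟨ht, hg⟩

/-- Finitely many points of codimension at most one of a separated Noetherian scheme lie in an affine open. -/
theorem exists_affine_of_finite [X.IsSeparated] (hfin : (irreducibleComponents (X : Type u)).Finite)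
    (T : Set X) (hT : T.Finite) (hN : ∀ t ∈ T, IsNoetherianRing (X.presheaf.stalk t))
    (hd : ∀ t ∈ T, ringKrullDim (X.presheaf.stalk t) ≤ 1) : ∃ U : X.Opens, IsAffineOpen U ∧ T ⊆ U := by
  classical
  refine AffContLib.exists_affine_of_finite (T := T) hT hfin.toFinset
    (fun x => ⟨irreducibleComponent x, hfin.mem_toFinset.2 (irreducibleComponent_mem_irreducibleComponents x),
      mem_irreducibleComponent⟩) fun Z hZ => ?_
  have hZ' := hfin.mem_toFinset.1 hZ
  let I := Scheme.IdealSheafData.vanishingIdeal (⟨Z, isClosed_of_mem_irreducibleComponents Z hZ'⟩ : Closeds X)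
  have hrange : Set.range I.subschemeι = Z := by
    rw [Scheme.IdealSheafData.range_subschemeι]
    exact Scheme.IdealSheafData.coe_support_vanishingIdeal _
  haveI : IsIntegral I.subscheme := by
    haveI := DevissLib.isReduced_vanishingIdeal' (⟨Z, isClosed_of_mem_irreducibleComponents Z hZ'⟩ : Closeds X)
    haveI : IrreducibleSpace I.subscheme := by
      have hi := I.subschemeι.isEmbedding
      have hne : Nonempty I.subscheme := by
        obtain ⟨x, hx⟩ := hZ'.1.1
        obtain ⟨z, -⟩ := hrange.ge hx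
        exact ⟨z⟩
      have hpre : IsPreirreducible (Set.univ : Set I.subscheme) := by
        rintro u v hu hv ⟨a, -, ha⟩ ⟨b, -, hb⟩
        obtain ⟨u', hu', rfl⟩ := hi.isInducing.isOpen_iff.mp hu
        obtain ⟨v', hv', rfl⟩ := hi.isInducing.isOpen_iff.mp hv
        obtain ⟨_, hy, hyu, hyv⟩ :=
          hZ'.1.2 u' v' hu' hv' ⟨_, hrange.le ⟨a, rfl⟩, ha⟩ ⟨_, hrange.le ⟨b, rfl⟩, hb⟩
        obtain ⟨z, rfl⟩ := hrange.ge hy
        exact ⟨z, trivial, hyu, hyv⟩
      exact { isPreirreducible_univ := hpre, toNonempty := hne }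
    exact isIntegral_of_irreducibleSpace_of_isReduced _
  haveI : I.subscheme.IsSeparated := ⟨by
    rw [Subsingleton.elim (Limits.terminal.from I.subscheme) (I.subschemeι ≫ Limits.terminal.from X)]
    infer_instance⟩
  obtain ⟨V, hV, hTV⟩ := exists_affine_of_finite_integral (X := I.subscheme)
    (I.subschemeι ⁻¹' T) (hT.preimage I.subschemeι.isClosedEmbedding.injective.injOn)
    (fun z hz => haveI := hN _ hz
      isNoetherianRing_of_surjective _ _ (I.subschemeι.stalkMap z).hom (I.subschemeι.stalkMap_surjective z))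
    fun z hz => (ringKrullDim_le_of_surjective (I.subschemeι.stalkMap z).hom (I.subschemeι.stalkMap_surjective z)).trans (hd _ hz)
  exact ⟨_, I.subschemeι, inferInstance, hrange, V, hV, hTV⟩

end FinCodimGenLib
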